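import Cfsg.Agent.H794.EM.Main
import Cfsg.Agent.H577.HT.One
import Cfsg.Agent.H623.XZ.FldB
import Cfsg.Agent.H316.HT.Defs

/-!
# S4933: characters of `GL_n(F)` and `GU_n(q)` of `p`-height one in the principal block, all `e = ord_p(Q)` (also `e = 1`)

* `gu_data`, `gl_data`.
-/

set_option autoImplicit false

open Cfsg
open scoped ComplexConjugate TensorProduct MatrixGroups

namespace Cfsg.Agent.H623.HT

open Cfsg.Agent.H577.GLB.Std Cfsg.Agent.H614.GLn Cfsg.Agent.H615.GU Cfsg.Agent.H623.GU Cfsg.Agent.H623.XZ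
open Cfsg.Agent.H316.HT

universe u

/-- a label of order `p` -/
theorem exists_label {M p : ℕ} [NeZero M] (hp : p.Prime) (h : p ∣ M) : ∃ c : ZMod M, c ≠ 0 ∧ p • c = 0 := by
  obtain ⟨d, hd⟩ := h
  have hM : M ≠ 0 := NeZero.ne M
  have hd0 : d ≠ 0 := by
    rintro rfl
    rw [mul_zero] at hd
    exact hM hd
  refine ⟨(d : ZMod M), ?_, ?_⟩
  · rw [Ne, ZMod.natCast_eq_zero_iff]
    intro h1
    have h2 := Nat.le_of_dvd (Nat.pos_of_ne_zero hd0) h1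
    have h3 : d * 2 ≤ p * d := by rw [mul_comm p]; exact Nat.mul_le_mul_left d hp.two_le
    omega
  · rw [nsmul_eq_mul, ← Nat.cast_mul, ← hd, ZMod.natCast_self]

theorem isUnit_nat {F : Type u} [Field F] [Fintype F] {p : ℕ} (hp : p.Prime) (h : ¬ p ∣ Fintype.card F) :
    IsUnit ((Nat.card F : ℕ) : ZMod p) := by
  have : Fact p.Prime := ⟨hp⟩
  rw [isUnit_iff_ne_zero, Ne, ZMod.natCast_eq_zero_iff, Nat.card_eq_fintype_card]
  exact h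

theorem cast_ne_zero {F : Type u} [Field F] [Fintype F] {p : ℕ} (hp : p.Prime) (h : ¬ p ∣ Fintype.card F) :
    (p : F) ≠ 0 := by
  obtain ⟨r, hr⟩ := CharP.exists F
  have hr' : Fact r.Prime := ⟨CharP.char_is_prime F r⟩
  obtain ⟨k, -, hk⟩ := FiniteField.card F r
  intro h0
  rw [CharP.cast_eq_zero_iff F r p] at h0
  have h1 := (Nat.prime_dvd_prime_iff_eq hr'.out hp).1 h0
  apply h
  rw [hk, ← h1]
  exact dvd_pow_self r k.pos.ne'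

/-- **the character of `GL_n(F)`** -/
theorem gl_data {p : ℕ} (hp : p.Prime) {F : Type u} [Field F] [Fintype F] {n : ℕ} (hp2 : p ≠ 2)
    (hpF : ¬ p ∣ Fintype.card F) (hn : p * orderOf ((Fintype.card F : ℕ) : ZMod p) ≤ n) {𝔐 : Ideal AlgInt}
    (h𝔐 : IsPModular p 𝔐) : ∃ χ : IrrCharacter (GL (Fin n) F), χ ∈ principalBlock 𝔐 (GL (Fin n) F) ∧
      vd p (χ : GL (Fin n) F → ℂ) = 1 ∧ ∀ ρ : F ≃+* F, (∃ k : ℕ, ρ ^ (p ^ k) = 1) → ∀ g : GL (Fin n) F,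
        (χ : GL (Fin n) F → ℂ) (Matrix.GeneralLinearGroup.map (ρ : F →+* F) g) = (χ : GL (Fin n) F → ℂ) g := by
  have := Cfsg.Agent.Blocks.Local.isPrime_of_isPModular h𝔐
  have hpp : Fact p.Prime := ⟨hp⟩
  obtain ⟨K, _, _, θ, M, _, C, hpM⟩ := H614.GU.exists_ctx_dvd F n hp (isUnit_nat hp hpF)
  have hpF' := cast_ne_zero hp hpF
  have ctx : CtxQ θ ((Fintype.card F : ℕ) : ℤ) M n := by
    rw [← Nat.card_eq_fintype_card]
    exact H614.GU.ctxQ_card C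
  obtain ⟨t, ht⟩ := H941.GU.towG ctx C hp hpF'
  obtain ⟨c, hc, hc'⟩ := exists_label hp hpM
  have hQp : IsUnit (((Fintype.card F : ℕ) : ℤ) : ZMod p) := isUnit_card hp hpF'
  obtain ⟨χ, T, h1, h2, h3, h4⟩ := H794.EM.exists_one hp (hp.odd_of_ne_two hp2) h𝔐 ctx hQp t (le_refl n)
    (H577.HT.typ_one_G ctx (t.T n le_rfl) (fun A x => ht n le_rfl A x)) (e := orderOf (((Fintype.card F : ℕ) : ℤ) : ZMod p))
    rfl (H614.GU.orderOfZ_pos hp hQp) (by rw [Int.cast_natCast]; exact hn) hc hc'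
  exact ⟨χ, h2, h3, fun ρ ⟨k, hk⟩ g => gl_fld ctx t ht le_rfl hp h1 h4 ρ hk g⟩

/-- **the character of `GU_n(q)`** -/
theorem gu_data {p : ℕ} (hp : p.Prime) {F : Type u} [Field F] [Fintype F] {n q : ℕ} (hp2 : p ≠ 2)
    (hF : Fintype.card F = q ^ 2) (hpq : ¬ p ∣ q) (hn : p * orderOf (-(q : ZMod p)) ≤ n) {𝔐 : Ideal AlgInt}
    (h𝔐 : IsPModular p 𝔐) : ∃ χ : IrrCharacter (GU n F q), χ ∈ principalBlock 𝔐 (GU n F q) ∧
      vd p (χ : GU n F q → ℂ) = 1 ∧ ∀ ρ : F ≃+* F, (∃ k : ℕ, ρ ^ (p ^ k) = 1) → ∀ g : GU n F q,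
        (χ : GU n F q → ℂ) (Schreier.PSU.mapGU ρ g) = (χ : GU n F q → ℂ) g := by
  have := Cfsg.Agent.Blocks.Local.isPrime_of_isPModular h𝔐
  have hpp : Fact p.Prime := ⟨hp⟩
  have hpF : ¬ p ∣ Fintype.card F := by
    rw [hF]
    intro h
    exact hpq (hp.dvd_of_dvd_pow h)
  obtain ⟨K, _, _, θ, M, _, C, hpM⟩ := H614.GU.exists_ctx_dvd F n hp (isUnit_nat hp hpF)
  have hpF' := cast_ne_zero hp hpF
  have ctx : CtxQ θ (-(q : ℤ)) M n := H614.GU.ctxQ_of_ctx C (by rw [Nat.card_eq_fintype_card]; exact hF)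
  obtain ⟨t, ht⟩ := H941.GU.towU hF ctx C hp hpF'
  obtain ⟨c, hc, hc'⟩ := exists_label hp hpM
  have hQp : IsUnit ((-(q : ℤ) : ℤ) : ZMod p) := isUnit_neg_q hF hp hpF'
  have hcast : ((-(q : ℤ) : ℤ) : ZMod p) = -(q : ZMod p) := by push_cast; rfl
  obtain ⟨χ, T, h1, h2, h3, h4⟩ := H794.EM.exists_one hp (hp.odd_of_ne_two hp2) h𝔐 ctx hQp t (le_refl n)
    (H577.HT.typ_one_U ctx (t.T n le_rfl) (ht n le_rfl)) (e := orderOf ((-(q : ℤ) : ℤ) : ZMod p))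
    rfl (H614.GU.orderOfZ_pos hp hQp) (by rw [hcast]; exact hn) hc hc'
  exact ⟨χ, h2, h3, fun ρ ⟨k, hk⟩ g => gu_fld hF ctx t ht le_rfl hp h1 h4 ρ hk g⟩

/-- `GUData1` : the case `p ∣ q + 1` -/
theorem gu_data_one {p : ℕ} (hp : p.Prime) {F : Type u} [Field F] [Fintype F] {n q : ℕ} (hp2 : p ≠ 2)
    (hF : Fintype.card F = q ^ 2) (hpq : p ∣ q + 1) (hn : p ≤ n) {𝔐 : Ideal AlgInt}
    (h𝔐 : IsPModular p 𝔐) : ∃ χ : IrrCharacter (GU n F q), χ ∈ principalBlock 𝔐 (GU n F q) ∧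
      vd p (χ : GU n F q → ℂ) = 1 ∧ ∀ ρ : F ≃+* F, (∃ k : ℕ, ρ ^ (p ^ k) = 1) → ∀ g : GU n F q,
        (χ : GU n F q → ℂ) (Schreier.PSU.mapGU ρ g) = (χ : GU n F q → ℂ) g := by
  have h1 : -(q : ZMod p) = 1 := by
    have h2 : ((q + 1 : ℕ) : ZMod p) = 0 := (ZMod.natCast_eq_zero_iff _ _).2 hpq
    push_cast at h2
    exact neg_eq_of_add_eq_zero_right h2
  refine gu_data hp hp2 hF ?_ (by rw [h1, orderOf_one, mul_one]; exact hn) h𝔐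
  intro h
  have h3 : p ∣ 1 := (Nat.dvd_add_right h).1 hpq
  exact hp.one_lt.ne' (Nat.dvd_one.1 h3)

end Cfsg.Agent.H623.HT
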